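import Mathlib
import Cfsg.Agent.S4608
import Cfsg.Agent.S4652
import Cfsg.Agent.S4698
import Cfsg.Agent.S0908
import Cfsg.Agent.H634.TwoA
import Cfsg.Agent.H703.Lat.Small
import Cfsg.Agent.H774.K0.Prime
import Cfsg.Agent.SmallSimple.OrderEight
import Cfsg.Agent.H850.K5.Cyc

/-!
# `k(B₀) = 5`, `p = 2`: the end, from `|P : P'| = 4`

`end_two` : `P ≅ D₈` or `Q₈` if `k(B₀) = 5` and `k₀(B₀) = 4 → |P : P'| = 4`.
`four_classes` : a group with four classes of nontrivial `2`-elements has `k(B₀) ≠ 5` unless `l(B₀) = 1`.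
-/

set_option autoImplicit false

open Cfsg

namespace Cfsg.Agent.H850.K5.End

open Cfsg.Agent.H634 Cfsg.Agent.H634.Cols Cfsg.Agent.H634.HypS Cfsg.Agent.H634.TwoA
open Cfsg.Agent.Characters.Core Cfsg.Agent.Blocks Cfsg.Agent.Blocks.Basic

universe u

variable {G : Type u} [Group G] [Finite G] {M : Ideal AlgInt}

/-- `k(B₀) = 5` implies that eight divides the group order (`p = 2`). -/
theorem eight_le (hM : IsPModular 2 M) (hk : Nat.card (principalBlock M G) = 5) (P : Sylow 2 G) :
    ∃ n, 3 ≤ n ∧ Nat.card (P : Subgroup G) = 2 ^ n := by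
  have := Fintype.ofFinite G
  have := hM.2.1.isPrime
  have hBD : IsDefectGroup 2 M (principalBlock M G) (P : Subgroup G) := (S4652.result 2 M hM _).2 ⟨P, rfl⟩
  have hB : IsPBlock M (principalBlock M G) := Blocks.PrincipalSection.isPBlock_principalBlock
  have h1 := S0908.result 2 M hM _ hB _ hBD
  refine ⟨_, ?_, h1⟩
  by_contra h
  have h2 := (S4698.result 2 M hM _ hB _ rfl).1 (by omega)
  rw [hk] at h2
  have h3 : 2 ^ blockDefect 2 (principalBlock M G) ≤ 2 ^ 2 := Nat.pow_le_pow_right (by norm_num) (by omega)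
  omega

/-- the number of characters of odd degree is four -/
theorem k0_eq_four (hM : IsPModular 2 M) (hk : Nat.card (principalBlock M G) = 5) :
    Nat.card {χ : IrrCharacter G // χ ∈ principalBlock M G ∧ ¬ 2 ∣ charDegree (χ : G → ℂ)} = 4 := by
  classical
  have := Characters.Core.finite_irr (G := G)
  obtain ⟨P⟩ : Nonempty (Sylow 2 G) := inferInstance
  obtain ⟨n, hn, hP⟩ := eight_le hM hk P
  have h4 : 4 ∣ Nat.card G := by
    refine dvd_trans ?_ (Subgroup.card_subgroup_dvd_card (P : Subgroup G))
    rw [hP, show (4 : ℕ) = 2 ^ 2 by norm_num]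
    exact pow_dvd_pow 2 (by omega)
  have h5 := H703.Lat.four_dvd_card hM (H703.Lat.good_principal (G := G) hM) h4
  have h6 : Nat.card {χ : IrrCharacter G // χ ∈ principalBlock M G ∧ ¬ 2 ∣ charDegree (χ : G → ℂ)} =
      (H703.Lat.S 2 (H703.Lat.B0 M G)).card := by
    rw [← Nat.card_eq_finsetCard]
    refine Nat.card_congr (Equiv.subtypeEquivRight fun χ => ?_)
    rw [H703.Lat.mem_S, H703.Lat.mem_B0]
  rw [← h6] at h5
  have h7 : Nat.card {χ : IrrCharacter G // χ ∈ principalBlock M G ∧ ¬ 2 ∣ charDegree (χ : G → ℂ)} ≤ 5 := by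
    rw [← hk]
    exact Nat.card_le_card_of_injective
      (fun χ : {χ : IrrCharacter G // χ ∈ principalBlock M G ∧ ¬ 2 ∣ charDegree (χ : G → ℂ)} =>
        (⟨χ.1, χ.2.1⟩ : principalBlock M G)) (fun a b h => Subtype.ext (by
        have := congrArg (fun t : principalBlock M G => (t : IrrCharacter G)) h
        exact this))
  have h8 : 0 < Nat.card {χ : IrrCharacter G // χ ∈ principalBlock M G ∧ ¬ 2 ∣ charDegree (χ : G → ℂ)} :=
    H774.K0.k0_pos hM
  omega

/-- If `k(B₀) = 5` and `G` has four classes of nontrivial `2`-elements then `|P| = 8`. -/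
theorem card_of_four_classes (hM : IsPModular 2 M) (hk : Nat.card (principalBlock M G) = 5)
    (P : Sylow 2 G) (S : Finset G) (hS : ∀ x ∈ S, ∃ k : ℕ, orderOf x = 2 ^ k) (hS1 : (1 : G) ∉ S)
    (hinj : ∀ x ∈ S, ∀ y ∈ S, IsConj x y → x = y) (hcard : 4 ≤ S.card) :
    Nat.card (P : Subgroup G) = 8 := by
  classical
  have := Fintype.ofFinite G
  have := hM.2.1.isPrime
  have h1 := sum_rank_le hM (insert 1 S)
    (by
      intro x hx
      rcases Finset.mem_insert.1 hx with rfl | hx
      · exact ⟨0, by simp⟩
      · exact hS x hx)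
    (by
      intro x hx y hy hxy
      rcases Finset.mem_insert.1 hx with rfl | hx
      · exact (isConj_one_right.1 hxy).symm
      · rcases Finset.mem_insert.1 hy with rfl | hy
        · exact isConj_one_left.1 hxy
        · exact hinj x hx y hy hxy)
  rw [Finset.sum_insert hS1, rank_one_eq hM, hk] at h1
  have h2 : ∑ x ∈ S, 1 ≤ ∑ x ∈ S, blockRank 2 (principalBlock M ↥(Subgroup.centralizer ({x} : Set G))) :=
    Finset.sum_le_sum fun x _ => blockRank_pos hM
  rw [Finset.sum_const, smul_eq_mul, mul_one] at h2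
  have h3 := blockRank_pos (G := G) hM
  have hl : blockRank 2 (principalBlock M G) = 1 := by omega
  have hBD : IsDefectGroup 2 M (principalBlock M G) (P : Subgroup G) := (S4652.result 2 M hM _).2 ⟨P, rfl⟩
  rcases S4608.result 2 M hM _ Blocks.PrincipalSection.isPBlock_principalBlock _ hBD hl hk with h | h
  · obtain ⟨n, hn, hP⟩ := eight_le hM hk P
    exfalso
    have h5 : (2 : ℕ) ∣ 5 := by
      rw [← h, hP]
      exact dvd_pow_self 2 (by omega)
    omega
  · exact h.1

/-- **`S4874` for `p = 2` from the case `p = 2` of `S4925`.** -/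
theorem end_two (hM : IsPModular 2 M) (hk : Nat.card (principalBlock M G) = 5) (P : Sylow 2 G)
    (h4 : Nat.card {χ : IrrCharacter G // χ ∈ principalBlock M G ∧ ¬ 2 ∣ charDegree (χ : G → ℂ)} = 4 →
      (commutator (P : Subgroup G)).index = 4) :
    Nonempty ((P : Subgroup G) ≃* DihedralGroup 4) ∨ Nonempty ((P : Subgroup G) ≃* QuaternionGroup 2) := by
  classical
  obtain ⟨n, hn, hP⟩ := eight_le hM hk P
  have hab := h4 (k0_eq_four hM hk)
  have h8 : Nat.card (P : Subgroup G) = 8 := by
    rcases Nat.lt_or_ge n 4 with hn4 | hn4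
    · have : n = 3 := by omega
      rw [hP, this]; norm_num
    obtain ⟨C, hC, hC2⟩ := Transfer.TausskyTwoGroup.exists_isCyclic_index_two n hP hab
    obtain ⟨⟨x, hxC⟩, hx⟩ := hC.exists_generator
    have hCx : Subgroup.zpowers x = C := by
      apply le_antisymm
      · rw [Subgroup.zpowers_le]; exact hxC
      · intro y hy
        obtain ⟨k, hk⟩ := hx ⟨y, hy⟩
        exact ⟨k, congrArg Subtype.val hk⟩
    rw [← hCx] at hC2
    have hnc := Cyc.not_isConj_pow_five P hn4 hP hab hC2
    have hordx : orderOf x = 2 ^ (n - 1) := by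
      have h1 := Subgroup.card_mul_index (Subgroup.zpowers x)
      rw [hC2, hP, Nat.card_zpowers] at h1
      have h2 : 2 ^ n = 2 ^ (n - 1) * 2 := by rw [← pow_succ]; congr 1; omega
      rw [h2] at h1
      exact Nat.eq_of_mul_eq_mul_right (by norm_num) h1
    have hordx' : orderOf (x : G) = 2 ^ (n - 1) := by rw [Subgroup.orderOf_coe, hordx]
    have hpow : ∀ j, j ≤ n - 1 → orderOf ((x : G) ^ 2 ^ j) = 2 ^ (n - 1 - j) := by
      intro j hj
      rw [orderOf_pow, hordx', Nat.gcd_eq_right (pow_dvd_pow 2 hj), Nat.pow_div hj (by norm_num)]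
    set a : G := (x : G) with ha
    set b : G := (x : G) ^ 5 with hb
    set c : G := (x : G) ^ 2 ^ 1 with hc
    set d : G := (x : G) ^ 2 ^ 2 with hd
    have oa : orderOf a = 2 ^ (n - 1) := hordx'
    have ob : orderOf b = 2 ^ (n - 1) := by
      rw [hb, Nat.Coprime.orderOf_pow, hordx']
      rw [hordx']
      exact Nat.Coprime.pow_left _ (by norm_num)
    have oc : orderOf c = 2 ^ (n - 1 - 1) := hpow 1 (by omega)
    have od : orderOf d = 2 ^ (n - 1 - 2) := hpow 2 (by omega)
    have hne : ∀ {s t : G} {i j : ℕ}, orderOf s = 2 ^ i → orderOf t = 2 ^ j → i ≠ j → ¬ IsConj s t :=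
      fun {s t i j} hs ht hij h => hij (Nat.pow_right_injective le_rfl (by
        obtain ⟨e, he⟩ := isConj_iff.1 h
        have h9 := MulEquiv.orderOf_eq (MulAut.conj e) s
        rw [MulAut.conj_apply, he, hs, ht] at h9
        exact h9.symm))
    have nab : ¬ IsConj a b := hnc
    have nac : ¬ IsConj a c := hne oa oc (by omega)
    have nad : ¬ IsConj a d := hne oa od (by omega)
    have nbc : ¬ IsConj b c := hne ob oc (by omega)
    have nbd : ¬ IsConj b d := hne ob od (by omega)
    have ncd : ¬ IsConj c d := hne oc od (by omega)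
    have hab' : a ≠ b := fun h => nab (h ▸ IsConj.refl _)
    have hac' : a ≠ c := fun h => nac (h ▸ IsConj.refl _)
    have had' : a ≠ d := fun h => nad (h ▸ IsConj.refl _)
    have hbc' : b ≠ c := fun h => nbc (h ▸ IsConj.refl _)
    have hbd' : b ≠ d := fun h => nbd (h ▸ IsConj.refl _)
    have hcd' : c ≠ d := fun h => ncd (h ▸ IsConj.refl _)
    have hone : ∀ {s : G} {i : ℕ}, 0 < i → orderOf s = 2 ^ i → s ≠ 1 := by
      rintro s i hi hs rfl
      rw [orderOf_one] at hs
      have := Nat.one_lt_two_pow (n := i) (by omega)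
      omega
    refine card_of_four_classes hM hk P {a, b, c, d} ?_ ?_ ?_ ?_
    · intro y hy
      simp only [Finset.mem_insert, Finset.mem_singleton] at hy
      rcases hy with h | h | h | h
      · exact ⟨_, by rw [h]; exact oa⟩
      · exact ⟨_, by rw [h]; exact ob⟩
      · exact ⟨_, by rw [h]; exact oc⟩
      · exact ⟨_, by rw [h]; exact od⟩
    · intro h
      simp only [Finset.mem_insert, Finset.mem_singleton] at h
      rcases h with h | h | h | h
      · exact hone (by omega) oa h.symm
      · exact hone (by omega) ob h.symm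
      · exact hone (by omega) oc h.symm
      · exact hone (by omega) od h.symm
    · intro y hy z hz hyz
      simp only [Finset.mem_insert, Finset.mem_singleton] at hy hz
      rcases hy with rfl | rfl | rfl | rfl <;> rcases hz with rfl | rfl | rfl | rfl <;>
        first
          | rfl
          | exact absurd hyz nab
          | exact absurd hyz nac
          | exact absurd hyz nad
          | exact absurd hyz nbc
          | exact absurd hyz nbd
          | exact absurd hyz ncd
          | exact absurd hyz.symm nab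
          | exact absurd hyz.symm nac
          | exact absurd hyz.symm nad
          | exact absurd hyz.symm nbc
          | exact absurd hyz.symm nbd
          | exact absurd hyz.symm ncd
    · rw [Finset.card_insert_of_notMem, Finset.card_insert_of_notMem, Finset.card_insert_of_notMem,
        Finset.card_singleton]
      · simpa using hcd'
      · simp only [Finset.mem_insert, Finset.mem_singleton, not_or]; exact ⟨hbc', hbd'⟩
      · simp only [Finset.mem_insert, Finset.mem_singleton, not_or]; exact ⟨hab', hac', had'⟩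
  refine SmallSimple.OrderEight.dihedral_or_quaternion_of_card_eight h8 ?_
  intro hcomm
  have h1 : commutator (P : Subgroup G) = ⊥ := by
    rw [commutator_def, Subgroup.commutator_eq_bot_iff_le_centralizer]
    intro x _
    rw [Subgroup.mem_centralizer_iff]
    intro y _
    exact hcomm.is_comm.comm y x
  rw [h1, Subgroup.index_bot, h8] at hab
  omega

end Cfsg.Agent.H850.K5.End
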